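import Cfsg.Agent.H61.K6.Base
import Cfsg.Agent.H191.KB.Final
import Cfsg.Agent.H627.ExSimpleGen

/-!
# S4876 (`k(B₀) = 6`): the criterion for groups with abelian outer automorphism group (helper349)

* `card_irr_add_one_le` : `|Irr(G/H)| + 1 ≤ l(B₀(G))`, `H` normal, `P C_G(P) ≤ H`, `O_{p'}(G) = 1`;
* `exists_reps` : the classes of `S` fall into sets of at most `|G : S C_G(P)|` under `G`;
* `seven_of_ab`, `KRow.of_ab` : four classes of nontrivial `p`-elements of `S` whose centralizers are not `p`-nilpotent,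
  `G / S C_G(P)` abelian: `7 ≤ k(B₀(G))`.
-/

set_option autoImplicit false
set_option linter.unusedSectionVars false

open Cfsg Subgroup Cfsg.Agent.H508.KB

namespace Cfsg.Agent.H349.K6

open Cfsg.Agent.H634

universe u v

section Rank

variable {G : Type u} [Group G] [Finite G] {p : ℕ} [hp : Fact p.Prime] {M : Ideal AlgInt}

/-- the characters of `G/H` and one more -/
theorem card_irr_add_one_le (hM : IsPModular p M) (hcore : pPrimeCore p G = ⊥) (P : Sylow p G) {H : Subgroup G}
    [H.Normal] (hPH : (P : Subgroup G) ≤ H) (hCH : centralizer ((P : Subgroup G) : Set G) ≤ H) {h : G} (hh : h ∈ H)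
    (hph : ¬ p ∣ orderOf h) (h1 : h ≠ 1) :
    Nat.card (IrrCharacter (G ⧸ H)) + 1 ≤ blockRank p (principalBlock M G) := by
  classical
  have := Fintype.ofFinite G
  have : Finite (IrrCharacter (G ⧸ H)) := Characters.Core.finite_irr
  have := Fintype.ofFinite (IrrCharacter (G ⧸ H))
  have hidx : ¬ p ∣ H.index := fun h => P.not_dvd_index (h.trans (Subgroup.index_dvd_of_le hPH))
  have hli := H627.ExSimpleGen.linearIndependent_infl (p := p) H hidx
  have hmem : ∀ χ : IrrCharacter (G ⧸ H), H633.Principal.infl H χ ∈ principalBlock M G := by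
    intro χ
    refine S4626.result p M hM P H hidx hCH _ fun n hn => ?_
    rw [H633.Principal.infl_apply, H633.Principal.infl_apply, (QuotientGroup.eq_one_iff n).2 hn, QuotientGroup.mk_one]
  set V := Submodule.span ℂ ((fun χ : IrrCharacter G => pRegularPart p (χ : G → ℂ)) '' principalBlock M G) with hV
  have hle : Submodule.span ℂ (Set.range fun χ : IrrCharacter (G ⧸ H) =>
      pRegularPart p (H633.Principal.infl H χ : G → ℂ)) ≤ V := by
    rw [Submodule.span_le]
    rintro _ ⟨χ, rfl⟩
    exact Submodule.subset_span ⟨_, hmem χ, rfl⟩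
  have hcard := finrank_span_eq_card hli
  change _ ≤ Module.finrank ℂ V
  rw [Nat.card_eq_fintype_card, ← hcard]
  rcases lt_or_eq_of_le (Submodule.finrank_mono hle) with hlt | heq
  · exact hlt
  exfalso
  have heq := Submodule.eq_of_le_of_finrank_eq hle heq
  apply h1
  apply H627.ExSimpleGen.eq_one_of_kernel hM hcore
  intro χ hχ
  have h1 : pRegularPart p (χ : G → ℂ) ∈ V := Submodule.subset_span ⟨χ, hχ, rfl⟩
  rw [← heq] at h1
  let W : Submodule ℂ (G → ℂ) :=
    { carrier := {f | f h = f 1}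
      add_mem' := by
        intro a b ha hb
        change a h + b h = a 1 + b 1
        rw [show a h = a 1 from ha, show b h = b 1 from hb]
      zero_mem' := rfl
      smul_mem' := by
        intro c a ha
        change c * a h = c * a 1
        rw [show a h = a 1 from ha] }
  have hr1 : IsPRegular p (1 : G) := by
    unfold IsPRegular
    rw [orderOf_one]
    exact hp.out.not_dvd_one
  have h2 : Submodule.span ℂ (Set.range fun χ : IrrCharacter (G ⧸ H) =>
      pRegularPart p (H633.Principal.infl H χ : G → ℂ)) ≤ W := by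
    rw [Submodule.span_le]
    rintro _ ⟨ψ, rfl⟩
    change pRegularPart p (H633.Principal.infl H ψ : G → ℂ) h = pRegularPart p (H633.Principal.infl H ψ : G → ℂ) 1
    unfold pRegularPart
    rw [if_pos (show IsPRegular p h from hph), if_pos hr1, H633.Principal.infl_apply, H633.Principal.infl_apply,
      (QuotientGroup.eq_one_iff h).2 hh, QuotientGroup.mk_one]
  have h3 : pRegularPart p (χ : G → ℂ) h = pRegularPart p (χ : G → ℂ) 1 := h2 h1
  unfold pRegularPart at h3
  rwa [if_pos (show IsPRegular p h from hph), if_pos hr1] at h3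

end Rank

section Orb

variable {G : Type u} [Group G] [Finite G]

/-- representatives of the classes of `G` in a set of representatives of classes of `S` -/
theorem exists_reps {S H : Subgroup G} [S.Normal] (T : Finset G)
    (hloc : ∀ x ∈ T, ∀ k ∈ H, ∃ s ∈ S, k * x * k⁻¹ = s * x * s⁻¹)
    (hinj : ∀ x ∈ T, ∀ y ∈ T, (∃ s ∈ S, s * x * s⁻¹ = y) → x = y) :
    ∃ T' ⊆ T, (∀ x ∈ T', ∀ y ∈ T', IsConj x y → x = y) ∧ T.card ≤ H.index * T'.card := by
  classical
  have hsec : ∀ c ∈ T.image ConjClasses.mk, ∃ x ∈ T, ConjClasses.mk x = c := fun c hc => Finset.mem_image.1 hc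
  choose! f hf hfc using hsec
  refine ⟨(T.image ConjClasses.mk).image f, ?_, ?_, ?_⟩
  · intro x hx
    obtain ⟨c, hc, rfl⟩ := Finset.mem_image.1 hx
    exact hf c hc
  · intro x hx y hy hxy
    obtain ⟨c, hc, rfl⟩ := Finset.mem_image.1 hx
    obtain ⟨c', hc', rfl⟩ := Finset.mem_image.1 hy
    have h1 : c = c' := by
      rw [← hfc c hc, ← hfc c' hc']
      exact ConjClasses.mk_eq_mk_iff_isConj.2 hxy
    rw [h1]
  · have hc : ((T.image ConjClasses.mk).image f).card = (T.image ConjClasses.mk).card := by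
      apply Finset.card_image_of_injOn
      intro c hc c' hc' h
      rw [← hfc c hc, ← hfc c' hc', h]
    rw [hc]
    refine Finset.card_le_mul_card_image T H.index fun c hc => ?_
    obtain ⟨x0, hx0, rfl⟩ := Finset.mem_image.1 hc
    have hg : ∀ x ∈ T.filter (fun x => ConjClasses.mk x = ConjClasses.mk x0), ∃ g : G, g * x0 * g⁻¹ = x := by
      intro x hx
      exact isConj_iff.1 (ConjClasses.mk_eq_mk_iff_isConj.1 (Finset.mem_filter.1 hx).2).symm
    choose! g hg using hg
    have hfin : Finite (G ⧸ H) := inferInstance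
    have := Fintype.ofFinite (G ⧸ H)
    rw [Subgroup.index_eq_card, Nat.card_eq_fintype_card, ← Finset.card_univ]
    refine Finset.card_le_card_of_injOn (fun x => (g x : G ⧸ H)) (fun _ _ => Finset.mem_univ _) ?_
    intro x hx y hy hxy
    have hk : (g x)⁻¹ * g y ∈ H := QuotientGroup.eq.1 hxy
    obtain ⟨s, hs, e⟩ := hloc x0 hx0 _ hk
    refine hinj x (Finset.mem_filter.1 hx).1 y (Finset.mem_filter.1 hy).1
      ⟨g x * s * (g x)⁻¹, Subgroup.Normal.conj_mem inferInstance s hs _, ?_⟩
    have e3 : (g x)⁻¹ * x * g x = x0 := by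
      have h0 := hg x hx
      calc (g x)⁻¹ * x * g x = (g x)⁻¹ * (g x * x0 * (g x)⁻¹) * g x := by rw [h0]
        _ = x0 := by group
    calc g x * s * (g x)⁻¹ * x * (g x * s * (g x)⁻¹)⁻¹ = g x * (s * ((g x)⁻¹ * x * g x) * s⁻¹) * (g x)⁻¹ := by group
      _ = g x * ((g x)⁻¹ * g y * x0 * ((g x)⁻¹ * g y)⁻¹) * (g x)⁻¹ := by rw [e3, e]
      _ = g y * x0 * (g y)⁻¹ := by group
      _ = y := hg y hy

end Orb

section Main

variable {G : Type u} [Group G] [Finite G] {p : ℕ} [hp : Fact p.Prime] {M : Ideal AlgInt}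

/-- **the criterion** -/
theorem seven_of_ab (hM : IsPModular p M) (hcore : pPrimeCore p G = ⊥) (S : Subgroup G) [S.Normal]
    (hcop : ¬ p ∣ S.index) (hab : ∀ a b : G, a * b * a⁻¹ * b⁻¹ ∈ hull p S) {h : G} (hh : h ∈ S)
    (hph : ¬ p ∣ orderOf h) (h1 : h ≠ 1) (T : Finset G)
    (hTp : ∀ x ∈ T, (∃ k : ℕ, orderOf x = p ^ k) ∧ x ≠ 1)
    (hinj : ∀ x ∈ T, ∀ y ∈ T, (∃ s ∈ S, s * x * s⁻¹ = y) → x = y)
    (hw : ∀ x ∈ T, ¬ HasNormalPComplement p ↥(centralizer ({x} : Set G))) (hT : 4 ≤ T.card) :
    7 ≤ Nat.card (principalBlock M G) := by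
  classical
  obtain ⟨P⟩ : Nonempty (Sylow p G) := inferInstance
  have hP := H735.S4822.sylow_le S hcop P
  have hn : (hull p S).Normal := (H96.KB.Hull.hull_eq S hcop (P.subtype hP)).2
  have hSH : S ≤ hull p S := le_sup_left
  have hr := card_irr_add_one_le hM hcore P (H := hull p S) (hP.trans hSH) (H261.KB.Ker.centralizer_le S P hP)
    (hSH hh) hph h1
  have hker := H191.KB.Crit.ker_eq_index S (H191.KB.deps hM) hcop hab
  rw [H261.KB.Ker.ker_eq S hM hcop] at hker
  have hfin : Finite (G ⧸ hull p S) := inferInstance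
  have := Fintype.ofFinite (G ⧸ hull p S)
  have hirr : Nat.card (IrrCharacter (G ⧸ hull p S)) = (hull p S).index := by
    rw [← hker]
    exact Cfsg.Agent.Characters.Core.card_irr
  rw [hirr] at hr
  obtain ⟨T', hT', hT'c, hcard⟩ := exists_reps (S := S) (H := hull p S) T (fun x hx k hk => by
    obtain ⟨Q, hQ⟩ : ∃ Q : Sylow p G, x ∈ Q := by
      obtain ⟨m, hm⟩ := (hTp x hx).1
      have h2 : IsPGroup p (Subgroup.zpowers x) := by
        rw [IsPGroup.iff_card]
        exact ⟨m, by rw [Nat.card_zpowers, hm]⟩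
      obtain ⟨Q, hQ⟩ := h2.exists_le_sylow
      exact ⟨Q, hQ (Subgroup.mem_zpowers x)⟩
    have h2 := H261.KB.Ker.hull_le S Q (H735.S4822.sylow_le S hcop Q) hk
    rw [← SetLike.mem_coe, Subgroup.normal_mul] at h2
    obtain ⟨s, hs, c, hc, rfl⟩ := Set.mem_mul.1 h2
    refine ⟨s, hs, ?_⟩
    have h3 : x * c = c * x := Subgroup.mem_centralizer_iff.1 hc x hQ
    calc s * c * x * (s * c)⁻¹ = s * (c * x) * c⁻¹ * s⁻¹ := by group
      _ = s * x * s⁻¹ := by rw [← h3]; group) hinj
  have h1T : (1 : G) ∉ T' := fun h => (hTp 1 (hT' h)).2 rfl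
  have h2 := TwoA.sum_rank_le hM (insert 1 T') (by
    intro x hx
    rcases Finset.mem_insert.1 hx with rfl | hx
    · exact ⟨0, by simp⟩
    · exact (hTp x (hT' hx)).1) (by
    intro x hx y hy hxy
    rcases Finset.mem_insert.1 hx with rfl | hx
    · exact (isConj_one_right.1 hxy).symm
    rcases Finset.mem_insert.1 hy with rfl | hy
    · exact isConj_one_right.1 hxy.symm
    · exact hT'c x hx y hy hxy)
  rw [Finset.sum_insert h1T, TwoA.rank_one_eq hM] at h2
  have h3 : T'.card * 2 ≤ ∑ x ∈ T', blockRank p (principalBlock M ↥(centralizer ({x} : Set G))) := by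
    rw [← smul_eq_mul]
    exact Finset.card_nsmul_le_sum _ _ _ fun x hx => H61.K6.two_le_rank hM (hw x (hT' hx))
  have h4 : 4 ≤ (hull p S).index * T'.card := hT.trans hcard
  have h5 : 6 ≤ (hull p S).index + 2 * T'.card := by
    rcases Nat.lt_or_ge T'.card 3 with h | h
    · have h6 : T'.card = 0 ∨ T'.card = 1 ∨ T'.card = 2 := by omega
      rcases h6 with h6 | h6 | h6 <;> rw [h6] at h4 ⊢ <;> omega
    · omega
  omega

/-- `O_{p'}(G) = 1` -/
theorem core_eq_bot {K : Subgroup G} [K.Normal] [hs : IsSimpleGroup K] (hna : ∃ a b : K, a * b ≠ b * a)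
    (hcen : centralizer (K : Set G) = ⊥) (hd : p ∣ Nat.card K) : pPrimeCore p G = ⊥ := by
  have hcop : ¬ p ∣ Nat.card ↥(pPrimeCore p G) := by
    have := Lib.Cores.pPrimeCore_coprime (G := G) p
    exact (Nat.Prime.coprime_iff_not_dvd hp.out).1 this.symm
  have h1 : pPrimeCore p G ⊓ K = ⊥ := by
    rcases hs.eq_bot_or_eq_top_of_normal ((pPrimeCore p G).subgroupOf K) inferInstance with h | h
    · rw [Subgroup.subgroupOf_eq_bot] at h
      exact h.eq_bot
    · exfalso
      have h2 : K ≤ pPrimeCore p G := Subgroup.subgroupOf_eq_top.1 h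
      exact hcop (hd.trans (Subgroup.card_dvd_of_le h2))
  have h2 : pPrimeCore p G ≤ centralizer (K : Set G) := by
    intro x hx
    rw [mem_centralizer_iff]
    intro y hy
    have h3 : y * x * y⁻¹ * x⁻¹ ∈ pPrimeCore p G ⊓ K := by
      refine ⟨(pPrimeCore p G).mul_mem (Subgroup.Normal.conj_mem inferInstance x hx y)
        ((pPrimeCore p G).inv_mem hx), ?_⟩
      have h4 : y * x * y⁻¹ * x⁻¹ = y * (x * y⁻¹ * x⁻¹) := by group
      rw [h4]
      exact K.mul_mem hy (Subgroup.Normal.conj_mem inferInstance _ (K.inv_mem hy) x)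
    rw [h1, mem_bot, mul_inv_eq_one, mul_inv_eq_iff_eq_mul] at h3
    exact h3
  rw [hcen] at h2
  exact le_bot_iff.1 h2

end Main

/-- **CRITERION Q for a row.** -/
theorem KRow.of_ab {p : ℕ} [hp : Fact p.Prime] {X : Type v} [Group X] [Finite X] [IsSimpleGroup X]
    (hna : ∃ a b : X, a * b ≠ b * a) (hd : p ∣ Nat.card X)
    (hab : ∀ (K : Type u) [Group K] [Finite K] [IsSimpleGroup K], Nonempty (K ≃* X) → AbOut p K) (T : Finset X)
    (hT : ∀ x ∈ T, H61.K6.El p x) (hinj : ∀ x ∈ T, ∀ y ∈ T, IsConj x y → x = y)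
    (hw : ∀ x ∈ T, ¬ HasNormalPComplement p ↥(centralizer ({x} : Set X))) (h4 : 4 ≤ T.card) :
    H61.K6.KRow.{u, v} p X := by
  classical
  intro M G _ _ K hS
  obtain ⟨f⟩ := hS.iso
  have := hS.normal
  have hfin : Finite K := inferInstance
  have : Nontrivial K := f.symm.toEquiv.nontrivial
  have hsK : IsSimpleGroup K := IsSimpleGroup.isSimpleGroup_of_surjective f.toMonoidHom f.surjective
  have hcard : Nat.card K = Nat.card X := Nat.card_congr f.symm.toEquiv
  have hnaK : ∃ a b : K, a * b ≠ b * a := by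
    obtain ⟨a, b, h⟩ := hna
    exact ⟨f a, f b, fun h1 => h (f.injective (by rw [map_mul, map_mul, h1]))⟩
  have hfi : Function.Injective fun x : X => ((f x : K) : G) := fun a b h => f.injective (Subtype.ext h)
  -- a `p`-regular element
  obtain ⟨h, hph, h1⟩ : ∃ h : K, ¬ p ∣ orderOf h ∧ h ≠ 1 := by
    by_contra hcon
    push Not at hcon
    have hpg : IsPGroup p K := by
      have e1 : Nat.card K = p ^ (Nat.card K).primeFactorsList.length :=
        Nat.eq_prime_pow_of_unique_prime_dvd Nat.card_pos.ne' (by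
          intro q hq hqd
          by_contra hqp
          have := Fact.mk hq
          obtain ⟨x, hx⟩ := exists_prime_orderOf_dvd_card' (G := K) q hqd
          have h3 := hcon x (by
            rw [hx]
            intro h3
            exact hqp ((Nat.prime_dvd_prime_iff_eq hp.out hq).1 h3).symm)
          rw [h3, orderOf_one] at hx
          exact hq.one_lt.ne hx)
      exact IsPGroup.of_card e1
    have hcen := hpg.center_nontrivial
    rcases hsK.eq_bot_or_eq_top_of_normal (Subgroup.center K) inferInstance with h2 | h2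
    · rw [h2] at hcen
      exact not_subsingleton _ (inferInstance : Subsingleton (⊥ : Subgroup K))
    · obtain ⟨a, b, hab⟩ := hnaK
      apply hab
      have : b ∈ Subgroup.center K := by rw [h2]; trivial
      exact Subgroup.mem_center_iff.1 this a
  have hcore := core_eq_bot (p := p) hnaK hS.cent (by rwa [hcard])
  have habK := H191.KB.Crit.comm_mem_hull K (MulEquiv.refl K) (hab K ⟨f.symm⟩) hS.cent hS.ndvd
  refine seven_of_ab hS.modular hcore K hS.ndvd habK (h := (h : G)) h.2 (by rwa [Subgroup.orderOf_coe])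
    (fun h2 => h1 (Subtype.ext h2)) (T.map ⟨fun x => ((f x : K) : G), hfi⟩) ?_ ?_ ?_ (by rwa [Finset.card_map])
  · intro y hy
    obtain ⟨x, hx, rfl⟩ := Finset.mem_map.1 hy
    obtain ⟨⟨k, hk⟩, hx1⟩ := hT x hx
    refine ⟨⟨k, ?_⟩, fun h2 => hx1 (f.injective (Subtype.ext ?_))⟩
    · change orderOf ((f x : K) : G) = _
      rw [Subgroup.orderOf_coe, MulEquiv.orderOf_eq, hk]
    · rw [map_one]
      exact h2
  · intro y hy y' hy' hc
    obtain ⟨x, hx, rfl⟩ := Finset.mem_map.1 hy
    obtain ⟨x', hx', rfl⟩ := Finset.mem_map.1 hy'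
    obtain ⟨s, hs, e⟩ := hc
    have h2 : IsConj x x' := by
      refine isConj_iff.2 ⟨f.symm ⟨s, hs⟩, ?_⟩
      apply hfi
      change ((f (f.symm ⟨s, hs⟩ * x * (f.symm ⟨s, hs⟩)⁻¹) : K) : G) = ((f x' : K) : G)
      rw [map_mul, map_mul, map_inv, f.apply_symm_apply]
      exact e
    rw [hinj x hx x' hx' h2]
  · intro y hy hc
    obtain ⟨x, hx, rfl⟩ := Finset.mem_map.1 hy
    refine hw x hx ?_
    let g : ↥(Subgroup.centralizer ({x} : Set X)) →* ↥(Subgroup.centralizer ({((f x : K) : G)} : Set G)) :=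
      { toFun := fun c => ⟨((f c : K) : G), by
          rw [Subgroup.mem_centralizer_singleton_iff]
          have h1 := Subgroup.mem_centralizer_singleton_iff.1 c.2
          have h2 := congrArg (fun y => ((f y : K) : G)) h1
          simpa using h2⟩
        map_one' := by
          apply Subtype.ext
          simp
        map_mul' := by
          intro a b
          apply Subtype.ext
          simp }
    exact ZJ.hasNormalPComplement_of_injective g (fun a b hab => by
      apply Subtype.ext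
      have h3 : (g a : G) = (g b : G) := congrArg Subtype.val hab
      exact f.injective (Subtype.ext h3)) hc

end Cfsg.Agent.H349.K6
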