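import Cfsg.Agent.H349.K6.Elts
import Cfsg.Agent.H349.KBE.TwoRows

/-!
# S4876 (`k(B₀) = 6`): the rows `E₆(q)`, `E₇(q)`, `E₈(q)`, `²E₆(q)`, `F₄(q)` (`p = 7`), `p ∣ q² - 1`, `p = 5, 7` (helper349)
-/

set_option autoImplicit false

namespace Cfsg.Agent.H349.K6

open Cfsg Cfsg.Lie Cfsg.Lie.ChevalleyDatum
open Cfsg.Agent.ChevalleyStructure Cfsg.Agent.ChevalleyStructure.Elts Cfsg.Agent.ChevalleyStructure.CoxeterGeomTypes
open Cfsg.Agent.Nodes Cfsg.Agent.Nodes.RGDChev
open Cfsg.Agent.H316.U6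

universe u v w

variable {l : ℕ} {M : CoxeterMatrix (Fin l)} {r q : ℕ} [Fact r.Prime] {K₀ : Type v} [Group K₀] [Finite K₀] {p : ℕ}
  [hpp : Fact p.Prime]

theorem krow_f4 {hp : IsType chevF4 l M} (m : MData hp r q K₀) (hg : m.g = AddEquiv.refl _) (h7 : p = 7)
    (hpr : p ≠ r) (hd : p ∣ q ^ 2 - 1) : H61.K6.KRow.{w, v} p K₀ := by
  subst h7
  exact krow_of_cnt m (by norm_num) hpr hd (s₁ := 47) (s₂ := 6) (s₃ := 17) (s₄ := 22) (by decide) (by decide) (by decide)
    (by decide) (by rw [hg]; rfl) (by rw [hg]; rfl) (by rw [hg]; rfl) (by rw [hg]; rfl)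
    (by decide +kernel) (by decide +kernel) (by decide +kernel) (by decide +kernel) (by decide +kernel) (by decide +kernel)
    (0, 0, 1) (0, 1, 2) (1, 1, 3) (n₁ := 18) (n₂ := 8) (n₃ := 4) (by decide +kernel) (by decide +kernel)
    (by decide +kernel) (by decide) (by decide)

theorem krow_e6 {hp : IsType chevE6 l M} (m : MData hp r q K₀)
    (hg : m.g (vec chevE6 l 71) = vec chevE6 l 71 ∧ m.g (vec chevE6 l 11) = vec chevE6 l 11 ∧
      m.g (vec chevE6 l 27) = vec chevE6 l 27 ∧ m.g (vec chevE6 l 32) = vec chevE6 l 32) (h57 : p = 5 ∨ p = 7)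
    (hpr : p ≠ r) (hd : p ∣ q ^ 2 - 1) : H61.K6.KRow.{w, v} p K₀ := by
  obtain ⟨g1, g2, g3, g4⟩ := hg
  rcases h57 with h | h <;> subst h
  · exact krow_of_cnt m (by norm_num) hpr hd (s₁ := 71) (s₂ := 11) (s₃ := 27) (s₄ := 32) (by decide) (by decide)
      (by decide) (by decide) g1 g2 g3 g4 (by decide +kernel) (by decide +kernel) (by decide +kernel)
      (by decide +kernel) (by decide +kernel) (by decide +kernel)
      (0, 0, 1) (0, 1, 1) (1, 1, 1) (n₁ := 30) (n₂ := 24) (n₃ := 14) (by decide +kernel) (by decide +kernel)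
      (by decide +kernel) (by decide) (by decide)
  · exact krow_of_cnt m (by norm_num) hpr hd (s₁ := 71) (s₂ := 11) (s₃ := 27) (s₄ := 32) (by decide) (by decide)
      (by decide) (by decide) g1 g2 g3 g4 (by decide +kernel) (by decide +kernel) (by decide +kernel)
      (by decide +kernel) (by decide +kernel) (by decide +kernel)
      (0, 0, 1) (0, 1, 1) (1, 1, 1) (n₁ := 30) (n₂ := 24) (n₃ := 14) (by decide +kernel) (by decide +kernel)
      (by decide +kernel) (by decide) (by decide)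

theorem krow_e7 {hp : IsType chevE7 l M} (m : MData hp r q K₀) (hg : m.g = AddEquiv.refl _) (h57 : p = 5 ∨ p = 7)
    (hpr : p ≠ r) (hd : p ∣ q ^ 2 - 1) : H61.K6.KRow.{w, v} p K₀ := by
  rcases h57 with h | h <;> subst h
  · exact krow_of_cnt m (by norm_num) hpr hd (s₁ := 33) (s₂ := 125) (s₃ := 38) (s₄ := 47) (by decide) (by decide)
      (by decide) (by decide) (by rw [hg]; rfl) (by rw [hg]; rfl) (by rw [hg]; rfl) (by rw [hg]; rfl)
      (by decide +kernel) (by decide +kernel) (by decide +kernel) (by decide +kernel) (by decide +kernel) (by decide +kernel)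
      (0, 0, 1) (0, 1, 1) (1, 1, 1) (n₁ := 60) (n₂ := 42) (n₃ := 32) (by decide +kernel) (by decide +kernel)
      (by decide +kernel) (by decide) (by decide)
  · exact krow_of_cnt m (by norm_num) hpr hd (s₁ := 33) (s₂ := 125) (s₃ := 38) (s₄ := 47) (by decide) (by decide)
      (by decide) (by decide) (by rw [hg]; rfl) (by rw [hg]; rfl) (by rw [hg]; rfl) (by rw [hg]; rfl)
      (by decide +kernel) (by decide +kernel) (by decide +kernel) (by decide +kernel) (by decide +kernel) (by decide +kernel)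
      (0, 0, 1) (0, 1, 1) (1, 1, 1) (n₁ := 60) (n₂ := 42) (n₃ := 32) (by decide +kernel) (by decide +kernel)
      (by decide +kernel) (by decide) (by decide)

theorem krow_e8 {hp : IsType chevE8 l M} (m : MData hp r q K₀) (hg : m.g = AddEquiv.refl _) (h57 : p = 5 ∨ p = 7)
    (hpr : p ≠ r) (hd : p ∣ q ^ 2 - 1) : H61.K6.KRow.{w, v} p K₀ := by
  rcases h57 with h | h <;> subst h
  · exact krow_of_cnt m (by norm_num) hpr hd (s₁ := 13) (s₂ := 239) (s₃ := 80) (s₄ := 87) (by decide) (by decide)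
      (by decide) (by decide) (by rw [hg]; rfl) (by rw [hg]; rfl) (by rw [hg]; rfl) (by rw [hg]; rfl)
      (by decide +kernel) (by decide +kernel) (by decide +kernel) (by decide +kernel) (by decide +kernel) (by decide +kernel)
      (0, 0, 1) (0, 1, 1) (1, 1, 1) (n₁ := 126) (n₂ := 84) (n₃ := 74) (by decide +kernel) (by decide +kernel)
      (by decide +kernel) (by decide) (by decide)
  · exact krow_of_cnt m (by norm_num) hpr hd (s₁ := 13) (s₂ := 239) (s₃ := 80) (s₄ := 87) (by decide) (by decide)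
      (by decide) (by decide) (by rw [hg]; rfl) (by rw [hg]; rfl) (by rw [hg]; rfl) (by rw [hg]; rfl)
      (by decide +kernel) (by decide +kernel) (by decide +kernel) (by decide +kernel) (by decide +kernel) (by decide +kernel)
      (0, 0, 1) (0, 1, 1) (1, 1, 1) (n₁ := 126) (n₂ := 84) (n₃ := 74) (by decide +kernel) (by decide +kernel)
      (by decide +kernel) (by decide) (by decide)

section Groups

variable {F : Type} [Field F] [Fintype F] [CharP F r]

/-- `F₄(q)`, `p = 7`, `7 ∣ q² - 1` -/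
theorem krow_F4_seven (h7 : p = 7) (hpr : p ≠ r) (hd : p ∣ Fintype.card F ^ 2 - 1) :
    H61.K6.KRow.{w, 0} p ↥(chevF4.group F) := by
  obtain ⟨m, hg, -⟩ := mdata_untw (r := r) (H129.CycT.typeF4) (fun h => absurd (congrArg ChevalleyDatum.nroots h) (by decide))
    (fun h => absurd (congrArg ChevalleyDatum.nroots h) (by decide)) F
  exact krow_f4 m hg h7 hpr hd

/-- `E₆(q)`, `p = 5, 7`, `p ∣ q² - 1` -/
theorem krow_E6 (h57 : p = 5 ∨ p = 7) (hpr : p ≠ r) (hd : p ∣ Fintype.card F ^ 2 - 1) :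
    H61.K6.KRow.{w, 0} p ↥(chevE6.group F) := by
  obtain ⟨m, hg, -⟩ := mdata_untw (r := r) (H129.CycT.typeE6) (fun h => absurd (congrArg ChevalleyDatum.nroots h) (by decide))
    (fun h => absurd (congrArg ChevalleyDatum.nroots h) (by decide)) F
  exact krow_e6 m ⟨by rw [hg]; rfl, by rw [hg]; rfl, by rw [hg]; rfl, by rw [hg]; rfl⟩ h57 hpr hd

/-- `E₇(q)`, `p = 5, 7`, `p ∣ q² - 1` -/
theorem krow_E7 (h57 : p = 5 ∨ p = 7) (hpr : p ≠ r) (hd : p ∣ Fintype.card F ^ 2 - 1) :
    H61.K6.KRow.{w, 0} p ↥(chevE7.group F) := by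
  obtain ⟨m, hg, -⟩ := mdata_untw (r := r) (H129.CycT.typeE7) (fun h => absurd (congrArg ChevalleyDatum.nroots h) (by decide))
    (fun h => absurd (congrArg ChevalleyDatum.nroots h) (by decide)) F
  exact krow_e7 m hg h57 hpr hd

/-- `E₈(q)`, `p = 5, 7`, `p ∣ q² - 1` -/
theorem krow_E8 (h57 : p = 5 ∨ p = 7) (hpr : p ≠ r) (hd : p ∣ Fintype.card F ^ 2 - 1) :
    H61.K6.KRow.{w, 0} p ↥(chevE8.group F) := by
  obtain ⟨m, hg, -⟩ := mdata_untw (r := r) (H129.CycT.typeE8) (fun h => absurd (congrArg ChevalleyDatum.nroots h) (by decide))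
    (fun h => absurd (congrArg ChevalleyDatum.nroots h) (by decide)) F
  exact krow_e8 m hg h57 hpr hd

/-- `²E₆(q)`, `p = 5, 7`, `p ∣ q² - 1` -/
theorem krow_twE6 (hq : IsPrimePow q) (hF : Fintype.card F = q ^ 2) (h57 : p = 5 ∨ p = 7) (hpr : p ≠ r)
    (hd : p ∣ q ^ 2 - 1) : H61.K6.KRow.{w, 0} p ↥(twistedE6 F q) := by
  obtain ⟨m, -, hg⟩ := mdata_twE6' (r := r) (K := F) hq hF
  exact krow_e6 m ⟨by rw [hg]; decide +kernel, by rw [hg]; decide +kernel, by rw [hg]; decide +kernel,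
    by rw [hg]; decide +kernel⟩ h57 hpr hd

end Groups

end Cfsg.Agent.H349.K6
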