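import Cfsg.Agent.H404.K6.CritE
import Cfsg.Agent.H904.SV.Th

/-!
# S4876, `p = 7`: the row of `Th` (helper349)

`C(s) = ⟨s⟩ × GL₃(2)` for an element `s` of order 7.
-/

set_option autoImplicit false

open Cfsg

namespace Cfsg.Agent.H349.K6

open Cfsg.Agent.H61.K6 Cfsg.Agent.H404.K6

universe u v

/-- `Inert` with `r = 2`, `p = 7`. -/
theorem inert_seven {X : Type*} [Group X] {x y h : X} (hX : ¬ 7 ^ 3 ∣ Nat.card X) (ox : orderOf x = 7)
    (oy : orderOf y = 7) (comm : Commute x y) (hx : Commute h x) (hy : h * y * h⁻¹ = y ^ 2) :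
    Inert 7 x y h 2 3 where
  card := hX
  ox := ox
  oy := oy
  comm := comm
  nmem := by
    rintro ⟨k, hk⟩
    have hk' : x ^ k = y := hk
    have h1 : h * y * h⁻¹ = y := by
      rw [← hk', (hx.zpow_right k).eq, mul_inv_cancel_right]
    rw [hy, pow_two] at h1
    have h2 : y = 1 := mul_eq_left.1 h1
    rw [h2, orderOf_one] at oy
    exact absurd oy (by norm_num)
  hx := hx
  hy := hy
  ord := by
    intro i h0 h3
    interval_cases i <;> decide

namespace Th

open Cfsg.Agent.ThType.CentSevenGL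

def mU : M3 := !![0,0,1;1,0,1;0,1,0]
def mU' : M3 := !![1,1,0;0,0,1;1,0,0]
def mH : M3 := !![1,0,0;0,0,1;0,1,1]
def mH' : M3 := !![1,0,0;0,1,1;0,1,0]

def gU : G3 := ⟨mU, mU', by decide +kernel, by decide +kernel⟩
def gH : G3 := ⟨mH, mH', by decide +kernel, by decide +kernel⟩

theorem rel : gH * gU * gH⁻¹ = gU ^ 2 := by
  ext1
  show mH * mU * mH' = mU ^ 2
  decide +kernel

theorem orderU : orderOf gU = 7 := by
  have : Fact (Nat.Prime 7) := ⟨by norm_num⟩
  refine orderOf_eq_prime ?_ ?_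
  · ext1
    show mU ^ 7 = 1
    decide +kernel
  · intro e
    have h1 : mU = 1 := congrArg Units.val e
    revert h1
    decide +kernel

/-- **`Th`, `p = 7`.** -/
theorem th_seven {X : Type v} [Group X] (h : Spor.IsoTh X) : KRow.{u, v} 7 X := by
  obtain ⟨e⟩ := h
  obtain ⟨s, F, hs, hinj, hFs, -⟩ := Cfsg.Agent.H904.SV.Th.exists_F
  have H : Inert 7 s (F gU) (F gH) 2 3 := by
    refine inert_seven ?_ hs ?_ (hFs gU).symm (hFs gH) ?_
    · rw [Cfsg.Agent.H723.Spor.Th.card_th]
      norm_num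
    · rw [orderOf_injective F hinj, orderU]
    · rw [← map_inv, ← map_mul, ← map_mul, rel, map_pow]
  exact KRow.congr e.symm (KRow.of_inertial.{u, 0} H (Or.inr ⟨rfl, by norm_num⟩))

end Th

end Cfsg.Agent.H349.K6
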