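import Cfsg.Agent.H349.K6.SporSeven
import Cfsg.Agent.H436.B7

/-!
# S4876, `p = 7`: the row of `B` (helper349)

`C_B(7A) = 7 × 2.L₃(4).2`: in the Monster, `C(y) / ⟨y⟩ ≅ He` for an element `y` of order 7 commuting with the
2A-involution `t`, the image of `t` is of type 2A in `He` and `C_He(2A) = 2².L₃(4).2` contains `7:3`.
-/

set_option autoImplicit false
set_option maxRecDepth 100000

namespace Cfsg.Agent.H349.K6.B

open Cfsg Subgroup

universe u v

/-! ### `He` -/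

section He

open Cfsg.Spor.He
open Cfsg.Agent.KFacts.He.Lv Cfsg.Agent.KFacts.He.TwoACent Cfsg.Agent.KFacts.He.TwoAPlane
open Cfsg.Agent.SporadicA.FieldFour Cfsg.Agent.ONType.Psl

def mU : Matrix (Fin 3) (Fin 3) F4 := ![![.z, .z, .o], ![.o, .z, .o], ![.z, .o, .z]]
def mH : Matrix (Fin 3) (Fin 3) F4 := ![![.o, .z, .z], ![.z, .z, .o], ![.z, .o, .o]]

theorem det_mU : mU.det = 1 := by rw [Matrix.det_fin_three]; decide +kernel
theorem det_mH : mH.det = 1 := by rw [Matrix.det_fin_three]; decide +kernel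

def sU : SL3 := ⟨mU, det_mU⟩
def sH : SL3 := ⟨mH, det_mH⟩

theorem mrel : mH * mU = mU * mU * mH := by decide +kernel

theorem srel : sH * sU = sU * sU * sH := Subtype.ext mrel

/-- the elements of `PSL₃(4)` -/
def pU : PSL3 := (QuotientGroup.mk sU : PSL3)
def pH : PSL3 := (QuotientGroup.mk sH : PSL3)

theorem prel : pH * pU = pU * pU * pH := congrArg (QuotientGroup.mk : SL3 → PSL3) srel

theorem mU7 : mU * mU * mU * mU * mU * mU * mU = 1 := by decide +kernel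

theorem pU7 : pU ^ 7 = 1 := by
  have h1 : sU * sU * sU * sU * sU * sU * sU = 1 := Subtype.ext mU7
  have h2 : pU * pU * pU * pU * pU * pU * pU = 1 := congrArg (QuotientGroup.mk : SL3 → PSL3) h1
  rw [← h2]
  simp only [pow_succ, pow_zero, one_mul]

theorem pU_ne : pU ≠ 1 := by
  intro h
  have h1 : sU ∈ center SL3 := (QuotientGroup.eq_one_iff sU).1 h
  have h2 : sH * sU = sU * sH := mem_center_iff.1 h1 sH
  have h3 : mH * mU = mU * mH := congrArg Subtype.val h2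
  revert h3
  decide +kernel

theorem V_pow {x : Spor.He} (hx : x ∈ V) : x ^ 4 = 1 := by
  have h1 : (⟨x, hx⟩ : ↥V) ^ Nat.card ↥V = 1 := pow_card_eq_one'
  rw [card_V] at h1
  exact congrArg Subtype.val h1

/-- **`7:3` in `C_He(2A)`** -/
theorem exists_he : ∃ u h : Spor.He, orderOf u = 7 ∧ u * gn .a = gn .a * u ∧ h * gn .a = gn .a * h ∧
    h * u * h⁻¹ = u ^ 2 := by
  obtain ⟨u0, hu0⟩ := Th_surjective pU
  obtain ⟨h0, hh0⟩ := Th_surjective pH
  have hk : ∀ x : ↥L, Th x = 1 → (x : Spor.He) ∈ V := by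
    intro x hx
    have h1 : x ∈ Th.ker := hx
    rw [ker_Th] at h1
    exact mem_subgroupOf.1 h1
  -- the relation
  have hv : ((h0 * u0 * h0⁻¹ * (u0 * u0)⁻¹ : ↥L) : Spor.He) ∈ V := by
    apply hk
    rw [map_mul, map_mul, map_mul, map_inv, map_inv, map_mul, hu0, hh0, prel]
    group
  obtain ⟨w, hw⟩ : ∃ w : Spor.He, w = ((h0 * u0 * h0⁻¹ * (u0 * u0)⁻¹ : ↥L) : Spor.He) := ⟨_, rfl⟩
  rw [← hw] at hv
  have hcw : Commute (((u0 : ↥L) : Spor.He)) w := (mem_V.1 hv _ u0.2)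
  have hrel : (h0 : Spor.He) * u0 * (h0 : Spor.He)⁻¹ = w * (u0 : Spor.He) ^ 2 := by
    rw [hw]
    show (h0 : Spor.He) * u0 * (h0 : Spor.He)⁻¹ = (h0 : Spor.He) * u0 * (h0 : Spor.He)⁻¹ * ((u0 : Spor.He) * u0)⁻¹ *
      (u0 : Spor.He) ^ 2
    group
  have h7 : ((u0 : Spor.He) ^ 7) ∈ V := by
    have h1 := hk (u0 ^ 7) (by rw [map_pow, hu0, pU7])
    exact h1
  have h56 : ((u0 : Spor.He) ^ 8) ^ 7 = 1 := by
    rw [← pow_mul, show 8 * 7 = 7 * 4 * 2 by norm_num, pow_mul, pow_mul, V_pow h7, one_pow]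
  have hw8 : w ^ 8 = 1 := by
    rw [show 8 = 4 * 2 by norm_num, pow_mul, V_pow hv, one_pow]
  refine ⟨(u0 : Spor.He) ^ 8, h0, ?_, ?_, L_comm_a h0.2, ?_⟩
  · have : Fact (Nat.Prime 7) := ⟨by norm_num⟩
    refine orderOf_eq_prime h56 ?_
    intro h1
    apply pU_ne
    have h2 : Th (u0 ^ 8) = 1 := by
      have h3 : u0 ^ 8 = 1 := Subtype.ext h1
      rw [h3, map_one]
    rw [map_pow, hu0, pow_succ, pU7, one_mul] at h2
    exact h2
  · have h1 : (u0 : Spor.He) ^ 8 ∈ L := L.pow_mem u0.2 8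
    exact L_comm_a h1
  · rw [← conj_pow, hrel, (hcw.symm.pow_right 2).mul_pow, hw8, one_mul, ← pow_mul, ← pow_mul]

end He

/-! ### lifting -/

/-- lifting through a central subgroup of order 7 -/
theorem lift {C : Type u} {F : Type v} [Group C] [Group F] (π : C →* F) (hπ : Function.Surjective π) {x : C}
    (hxc : ∀ c : C, c * x = x * c) (hker : ∀ c, π c = 1 → ∃ k : ℤ, x ^ k = c) (hx : orderOf x = 7)
    {u h τ : F} (hu : orderOf u = 7) (hrel : h * u * h⁻¹ = u ^ 2) {t : C} (ht : t * t = 1) (htτ : π t = τ)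
    (hut : u * τ = τ * u) (hht : h * τ = τ * h) :
    ∃ U H : C, orderOf U = 7 ∧ U * t = t * U ∧ H * t = t * H ∧ H * U * H⁻¹ = U ^ 2 := by
  have hti : t⁻¹ = t := inv_eq_of_mul_eq_one_left ht
  have hx7 : x ^ 7 = 1 := by rw [← hx, pow_orderOf_eq_one]
  have hcz : ∀ (c : C) (k : ℤ), c * x ^ k = x ^ k * c := fun c k => (show Commute c x from hxc c).zpow_right k
  have hx7k : ∀ k : ℤ, (x ^ k) ^ 7 = 1 := by
    intro k
    rw [← zpow_natCast, ← zpow_mul, mul_comm, zpow_mul, zpow_natCast, hx7, one_zpow]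
  -- elements commuting modulo `x`
  have hcomm : ∀ c : C, π c * τ = τ * π c → c * t = t * c := by
    intro c hc
    obtain ⟨k, hk⟩ := hker (c * t * c⁻¹ * t) (by
      rw [map_mul, map_mul, map_mul, map_inv, htτ, hc, ← htτ]
      rw [show π t * π c * (π c)⁻¹ * π t = π t * π t by group, ← map_mul, ht, map_one])
    have h1 : c * t * c⁻¹ = x ^ k * t := by
      rw [hk, mul_assoc (c * t * c⁻¹), ht, mul_one]
    have h2 : x ^ k * x ^ k = 1 := by
      have e1 : (c * t * c⁻¹) * (c * t * c⁻¹) = 1 := by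
        rw [show (c * t * c⁻¹) * (c * t * c⁻¹) = c * (t * t) * c⁻¹ by group, ht]
        group
      rw [h1] at e1
      rw [← e1, show x ^ k * t * (x ^ k * t) = x ^ k * (t * x ^ k) * t by group, hcz t k,
        show x ^ k * (x ^ k * t) * t = x ^ k * x ^ k * (t * t) by group, ht, mul_one]
    have h3 : x ^ k = 1 := by
      have e2 := hx7k k
      rw [show (7 : ℕ) = 2 * 3 + 1 by norm_num, pow_succ, pow_mul, pow_two, h2, one_pow, one_mul] at e2
      exact e2
    rw [h3, one_mul] at h1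
    calc c * t = (c * t * c⁻¹) * c := by group
      _ = t * c := by rw [h1]
  obtain ⟨U0, rfl⟩ := hπ u
  obtain ⟨H, rfl⟩ := hπ h
  obtain ⟨k, hk⟩ := hker ((U0 ^ 2)⁻¹ * (H * U0 * H⁻¹)) (by
    rw [map_mul, map_inv, map_pow, map_mul, map_mul, map_inv, hrel, inv_mul_cancel])
  have hk' : H * U0 * H⁻¹ = U0 ^ 2 * x ^ k := by rw [hk, mul_inv_cancel_left]
  have hxk : ∀ c : C, Commute c (x ^ k) := fun c => hcz c k
  have hrel' : H * (U0 * x ^ k) * H⁻¹ = (U0 * x ^ k) ^ 2 := by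
    rw [(hxk U0).mul_pow]
    calc H * (U0 * x ^ k) * H⁻¹ = H * U0 * (x ^ k * H⁻¹) := by group
      _ = H * U0 * (H⁻¹ * x ^ k) := by rw [(hxk H⁻¹).eq]
      _ = (H * U0 * H⁻¹) * x ^ k := by group
      _ = U0 ^ 2 * x ^ k * x ^ k := by rw [hk']
      _ = U0 ^ 2 * (x ^ k) ^ 2 := by rw [mul_assoc, pow_two (x ^ k)]
  have hpxk : π (x ^ k) = 1 := by
    rw [hk, map_mul, map_inv, map_pow, map_mul, map_mul, map_inv, hrel, inv_mul_cancel]
  have hpU : π (U0 * x ^ k) = π U0 := by rw [map_mul, hpxk, mul_one]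
  refine ⟨U0 * x ^ k, H, ?_, ?_, ?_, hrel'⟩
  · have : Fact (Nat.Prime 7) := ⟨by norm_num⟩
    refine orderOf_eq_prime ?_ ?_
    · obtain ⟨m, hm⟩ := hker ((U0 * x ^ k) ^ 7) (by rw [map_pow, hpU, ← hu, pow_orderOf_eq_one])
      have h1 : H * (U0 * x ^ k) ^ 7 * H⁻¹ = ((U0 * x ^ k) ^ 7) ^ 2 := by
        rw [← conj_pow, hrel', ← pow_mul, ← pow_mul, mul_comm]
      rw [← hm, hcz H m, mul_inv_cancel_right, pow_two] at h1
      rw [← hm]
      exact (mul_eq_left.1 h1.symm)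
    · intro h1
      rw [h1, map_one] at hpU
      rw [← hpU, orderOf_one] at hu
      exact absurd hu (by norm_num)
  · exact hcomm _ (by rw [hpU]; exact hut)
  · exact hcomm _ hht

/-! ### the Monster -/

section M

open Cfsg.Agent.BpTab Cfsg.Agent.CpAutBFive Cfsg.Agent.MFive
open Cfsg.Agent.LThreeMB (fr Zx XX KChart.Cent KChart.pi KChart.chart mk mk_eq_one mk_eq_mk mk_congr mk_mul exists_mk
  conj_comm tt)
open Cfsg.Agent.MonsterU Cfsg.Agent.MonsterU.Ch
open Cfsg.Agent.MonsterX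
open Cfsg.Agent.MonsterU.Lam2 (L2)
open Cfsg.Spor (Co1)
open Cfsg.Agent.KFacts.He.Lv

theorem small_of_conj {τ : Spor.He} (h : IsConj (gn .a) τ) : BpMon.Small τ := by
  obtain ⟨g, hg⟩ := isConj_iff.1 h
  let f : MulAut Cfsg.Spor.He := MulAut.conj g
  have hf : f ((Cfsg.Agent.KFacts.He.Lv.gn .a)) = τ := hg
  intro P hP hc hn
  have h4 := BpMon.small_a (P.map f.symm.toMonoidHom) (hP.map _) (by
    rintro _ ⟨q, hq, rfl⟩
    apply f.injective
    show f (f.symm q * _) = f (_ * f.symm q)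
    rw [map_mul, map_mul, f.apply_symm_apply, hf, hc q hq]) (by
    rintro c hcc _ ⟨q, hq, rfl⟩
    refine ⟨f c * q * (f c)⁻¹, hn (f c) (by rw [← hf, ← map_mul, ← map_mul, hcc]) q hq, ?_⟩
    show f.symm (f c * q * (f c)⁻¹) = c * f.symm q * c⁻¹
    rw [map_mul, map_mul, map_inv, f.symm_apply_apply])
  rwa [Nat.card_congr (equivMapOfInjective _ _ f.symm.injective).toEquiv.symm] at h4

theorem he_of_conj {τ : Spor.He} (h : IsConj (gn .a) τ) : ∃ u k : Spor.He, orderOf u = 7 ∧ u * τ = τ * u ∧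
    k * τ = τ * k ∧ k * u * k⁻¹ = u ^ 2 := by
  obtain ⟨g, hg⟩ := isConj_iff.1 h
  obtain ⟨u, k, h1, h2, h3, h4⟩ := exists_he
  have hc : ∀ c : Spor.He, c * gn .a = gn .a * c → (g * c * g⁻¹) * τ = τ * (g * c * g⁻¹) := by
    intro c hc
    rw [← hg]
    calc g * c * g⁻¹ * (g * gn .a * g⁻¹) = g * (c * gn .a) * g⁻¹ := by group
      _ = g * (gn .a * c) * g⁻¹ := by rw [hc]
      _ = _ := by group
  refine ⟨g * u * g⁻¹, g * k * g⁻¹, ?_, hc _ h2, hc _ h3, ?_⟩
  · rw [← h1]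
    exact MulEquiv.orderOf_eq (MulAut.conj g) u
  · rw [conj_pow, ← h4]
    group

theorem exists_mem {x : centralizer ({KDone.K.z} : Set ↥InstData.M.G)} (hx : orderOf x = 7) {t : ↥InstData.M.G}
    (ht : orderOf t = 2) (hxt : (x : ↥InstData.M.G) * t = t * x) (hnt : ∀ d : ↥InstData.M.G, d * t * d⁻¹ ≠ KDone.K.z) :
    ∃ U H : ↥InstData.M.G, orderOf U = 7 ∧ U * x = x * U ∧ H * x = x * H ∧ U * t = t * U ∧ H * t = t * H ∧
      H * U * H⁻¹ = U ^ 2 := by
  have := MFive.Row.finite_model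
  have h := KChart.chart KDone.lft MFive.Row.hc
  have hp : Nat.Prime 7 := by norm_num
  rcases CpAutMSeven.Ranks.hranks _ (MFive.orderOf_pi h hp (by decide) hx) with h6 | h6
  · obtain ⟨d, hd⟩ := BpMon.BSeven.conj_z hx h6 ht hxt
    exfalso
    refine hnt d⁻¹ ?_
    rw [← hd]
    group
  obtain ⟨e⟩ : Spor.IsoHe (XX (x : ↥InstData.M.G)) := CpAutMSeven.ZeroComps.heSix x hx h6
  have hxo : orderOf (x : ↥InstData.M.G) = 7 := by rw [Subgroup.orderOf_coe, hx]
  have hxp : (x : ↥InstData.M.G) ^ 7 = 1 := by rw [← hxo, pow_orderOf_eq_one]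
  have htt : t * t = 1 := by rw [← pow_two, ← ht, pow_orderOf_eq_one]
  have ht1 : t ≠ 1 := by
    intro h1
    rw [h1, orderOf_one] at ht
    exact absurd ht (by norm_num)
  -- an involution commuting with `x` is not in `⟨x⟩`
  have hpow : ∀ s : ↥InstData.M.G, s * s = 1 → s ^ 7 = s := fun s hs => by
    rw [show 7 = 2 * 3 + 1 by norm_num, pow_succ, pow_mul, pow_two, hs, one_pow, one_mul]
  have hinv : ∀ s : ↥InstData.M.G, s * s = 1 → s ≠ 1 → ∀ hs : s * (x : ↥InstData.M.G) = x * s,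
      mk (x : ↥InstData.M.G) hs * mk (x : ↥InstData.M.G) hs = 1 ∧ mk (x : ↥InstData.M.G) hs ≠ 1 := by
    intro s hss hs1 hs
    constructor
    · rw [mk_mul hs hs (by rw [hss, one_mul, mul_one])]
      rw [mk_congr _ (by rw [one_mul, mul_one]) hss]
      rfl
    · intro h1
      obtain ⟨i, hi⟩ := (mk_eq_one hs).1 h1
      apply hs1
      have h2 : s ^ 7 = 1 := by rw [← hi, ← zpow_natCast, ← zpow_mul, mul_comm, zpow_mul, zpow_natCast, hxp, one_zpow]
      rwa [hpow s hss] at h2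
  have hcl : ∀ (s : ↥InstData.M.G) (hs : s * (x : ↥InstData.M.G) = x * s), s * s = 1 → s ≠ 1 →
      IsConj CTwoTab.He.z (e (mk (x : ↥InstData.M.G) hs)) ∨ IsConj (gn .a) (e (mk (x : ↥InstData.M.G) hs)) := by
    intro s hs hss hs1
    obtain ⟨h1, h2⟩ := hinv s hss hs1 hs
    exact CTwoTab.He.classes (by rw [← map_mul, h1, map_one]) (by rwa [ne_eq, e.map_eq_one_iff])
  have hzz : KDone.K.z * KDone.K.z = 1 := h.large.z_sq
  have hzx : KDone.K.z * (x : ↥InstData.M.G) = x * KDone.K.z := (mem_centralizer_singleton_iff.1 x.2).symm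
  have hz : IsConj CTwoTab.He.z (e (tt x)) := by
    rcases hcl KDone.K.z hzx hzz h.large.z_ne with h1 | h1
    · exact h1
    · exact absurd (small_of_conj h1) (BpMon.not_small h hp (by norm_num) hx (by rw [h6]; norm_num) ⟨6, h6⟩ e)
  have hτ : IsConj (gn .a) (e (mk (x : ↥InstData.M.G) hxt.symm)) := by
    rcases hcl t hxt.symm htt ht1 with h1 | h1
    · exfalso
      obtain ⟨c, hc⟩ := isConj_iff.1 (h1.symm.trans hz)
      obtain ⟨c, rfl⟩ := e.surjective c
      rw [← map_mul, ← map_inv, ← map_mul] at hc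
      obtain ⟨g, hg, rfl⟩ := exists_mk c
      have hc2 := e.injective hc
      have h3 : mk (x : ↥InstData.M.G) (conj_comm hg hxt.symm) = mk (x : ↥InstData.M.G) hzx := hc2
      obtain ⟨i, hi⟩ := (mk_eq_mk _ _).1 h3
      -- `g t g⁻¹ x^i = z`
      apply hnt g
      have hcx : Commute (g * t * g⁻¹) ((x : ↥InstData.M.G) ^ i) :=
        (show Commute (g * t * g⁻¹) (x : ↥InstData.M.G) from conj_comm hg hxt.symm).zpow_right i
      have h4 : (g * t * g⁻¹ * (x : ↥InstData.M.G) ^ i) ^ 7 = KDone.K.z ^ 7 := by rw [hi]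
      have h5 : (g * t * g⁻¹) * (g * t * g⁻¹) = 1 := by
        calc (g * t * g⁻¹) * (g * t * g⁻¹) = g * (t * t) * g⁻¹ := by group
          _ = 1 := by rw [htt]; group
      rw [hcx.mul_pow, hpow _ h5, hpow _ hzz, ← zpow_natCast ((x : ↥InstData.M.G) ^ i), ← zpow_mul, mul_comm i,
        zpow_mul, zpow_natCast, hxp, one_zpow, mul_one] at h4
      exact h4
    · exact h1
  obtain ⟨u, k, hu, hut, hkt, hrel⟩ := he_of_conj hτ
  -- lifting
  let C := ↥(centralizer ({(x : ↥InstData.M.G)} : Set ↥InstData.M.G))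
  let π : C →* Spor.He := e.toMonoidHom.comp (QuotientGroup.mk' (Zx (x : ↥InstData.M.G)))
  have hπ : Function.Surjective π := e.surjective.comp (QuotientGroup.mk'_surjective _)
  obtain ⟨U, H, h1, h2, h3, h4⟩ := lift π hπ (x := ⟨(x : ↥InstData.M.G), mem_centralizer_singleton_iff.2 rfl⟩)
    (fun c => Subtype.ext (mem_centralizer_singleton_iff.1 c.2)) (fun c hc => by
      have h5 : e (mk (x : ↥InstData.M.G) (mem_centralizer_singleton_iff.1 c.2)) = 1 := hc
      rw [e.map_eq_one_iff] at h5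
      obtain ⟨i, hi⟩ := (Cfsg.Agent.LThreeMB.mk_eq_one (mem_centralizer_singleton_iff.1 c.2)).1 h5
      exact ⟨i, Subtype.ext hi⟩) (by rw [← Subgroup.orderOf_coe]; exact hxo) hu hrel
    (t := ⟨t, mem_centralizer_singleton_iff.2 hxt.symm⟩) (Subtype.ext htt) rfl hut hkt
  refine ⟨U, H, by rw [Subgroup.orderOf_coe, h1], mem_centralizer_singleton_iff.1 U.2,
    mem_centralizer_singleton_iff.1 H.2, congrArg Subtype.val h2, congrArg Subtype.val h3, ?_⟩
  exact congrArg Subtype.val h4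

/-- the general 2A-involution -/
theorem exists_gen {v y : ↥InstData.M.G} (hv : IsConj BpSpor.BCover.t v) (hy : orderOf y = 7) (hyv : y * v = v * y) :
    ∃ U H : ↥InstData.M.G, orderOf U = 7 ∧ U * y = y * U ∧ H * y = y * H ∧ U * v = v * U ∧ H * v = v * H ∧
      H * U * H⁻¹ = U ^ 2 := by
  have := MFive.Row.finite_model
  have ht := RowB.orderOf_t hv
  have hnt := RowB.not_conj hv
  have he : 2 ∣ Nat.card ↥(centralizer ({y} : Set ↥InstData.M.G)) := by
    have h1 : orderOf (⟨v, mem_centralizer_singleton_iff.2 hyv.symm⟩ : ↥(centralizer ({y} : Set ↥InstData.M.G))) = 2 := by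
      rw [← Subgroup.orderOf_coe]
      exact ht
    rw [← h1]
    exact orderOf_dvd_natCard _
  obtain ⟨g, hg⟩ := MSevenT.hex7 y hy he
  have h1 : (g⁻¹ * y * g) * KDone.K.z = KDone.K.z * (g⁻¹ * y * g) := by
    calc (g⁻¹ * y * g) * KDone.K.z = g⁻¹ * (y * (g * KDone.K.z * g⁻¹)) * g := by group
      _ = g⁻¹ * ((g * KDone.K.z * g⁻¹) * y) * g := by rw [hg]
      _ = KDone.K.z * (g⁻¹ * y * g) := by group
  obtain ⟨x', hx'⟩ : ∃ x' : centralizer ({KDone.K.z} : Set ↥InstData.M.G), (x' : ↥InstData.M.G) = g⁻¹ * y * g :=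
    ⟨⟨g⁻¹ * y * g, mem_centralizer_singleton_iff.2 h1⟩, rfl⟩
  have hconj : ∀ c : ↥InstData.M.G, orderOf (g⁻¹ * c * g) = orderOf c := by
    intro c
    have h6 := MulEquiv.orderOf_eq (MulAut.conj g⁻¹) c
    rwa [MulAut.conj_apply, inv_inv] at h6
  have hx7 : orderOf x' = 7 := by rw [← Subgroup.orderOf_coe, hx', hconj, hy]
  have h4 : (x' : ↥InstData.M.G) * (g⁻¹ * v * g) = (g⁻¹ * v * g) * x' := by
    rw [hx']
    calc g⁻¹ * y * g * (g⁻¹ * v * g) = g⁻¹ * (y * v) * g := by group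
      _ = g⁻¹ * (v * y) * g := by rw [hyv]
      _ = _ := by group
  obtain ⟨U, H, a1, a2, a3, a4, a5, a6⟩ := exists_mem hx7 (t := g⁻¹ * v * g) (by rw [hconj, ht]) h4 (by
    intro d hd
    refine hnt (d * g⁻¹) ?_
    rw [← hd]
    group)
  have hback : ∀ c d : ↥InstData.M.G, c * (g⁻¹ * d * g) = (g⁻¹ * d * g) * c → (g * c * g⁻¹) * d = d * (g * c * g⁻¹) := by
    intro c d hcd
    calc g * c * g⁻¹ * d = g * (c * (g⁻¹ * d * g)) * g⁻¹ := by group
      _ = g * ((g⁻¹ * d * g) * c) * g⁻¹ := by rw [hcd]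
      _ = _ := by group
  rw [hx'] at a2 a3
  refine ⟨g * U * g⁻¹, g * H * g⁻¹, ?_, hback _ _ a2, hback _ _ a3, hback _ _ a4, hback _ _ a5, ?_⟩
  · rw [← a1]
    exact MulEquiv.orderOf_eq (MulAut.conj g) U
  · rw [conj_pow, ← a6]
    group

end M

/-! ### the Baby Monster -/

theorem exists_inert {L : Type u} [Group L] (h : Spor.IsoB L) :
    ∃ x y k : L, Cfsg.Agent.H404.K6.Inert 7 x y k 2 3 := by
  have := MFive.Row.finite_model
  have hcL : Nat.card L = 4154781481226426191177580544000000 := by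
    obtain ⟨e⟩ := h
    rw [Nat.card_congr e.toEquiv, BM.KHAll.card_B]
  obtain ⟨t, ht, h2, ⟨e⟩⟩ := H436.B7.exists_cover h
  obtain ⟨q, hq⟩ : ∃ q : ↥(centralizer ({t} : Set ↥MonsterX.InstData.M.G)) →* L, q =
    e.toMonoidHom.comp (QuotientGroup.mk' (center ↥(centralizer ({t} : Set ↥MonsterX.InstData.M.G)))) := ⟨_, rfl⟩
  have hqs : Function.Surjective q := by
    rw [hq]
    exact e.surjective.comp (QuotientGroup.mk'_surjective _)
  have hqk : ∀ c, q c = 1 → c ^ 2 = 1 := by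
    intro c hc
    rw [hq] at hc
    have h3 : e (QuotientGroup.mk c) = 1 := hc
    rw [map_eq_one_iff e e.injective, QuotientGroup.eq_one_iff] at h3
    have h4 : (⟨c, h3⟩ : ↥(center ↥(centralizer ({t} : Set ↥MonsterX.InstData.M.G)))) ^
      Nat.card ↥(center ↥(centralizer ({t} : Set ↥MonsterX.InstData.M.G))) = 1 := pow_card_eq_one'
    rw [h2] at h4
    exact congrArg Subtype.val h4
  have : Fact (Nat.Prime 7) := ⟨by norm_num⟩
  -- images of elements of order 7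
  have h7 : ∀ c, orderOf c = 7 → orderOf (q c) = 7 := by
    intro c hc
    refine orderOf_eq_prime ?_ ?_
    · rw [← map_pow, ← hc, pow_orderOf_eq_one, map_one]
    · intro h3
      have h4 := orderOf_dvd_of_pow_eq_one (hqk c h3)
      rw [hc] at h4
      exact absurd (Nat.le_of_dvd (by norm_num) h4) (by norm_num)
  have hdvd : 7 ∣ Nat.card ↥(centralizer ({t} : Set ↥MonsterX.InstData.M.G)) := by
    refine dvd_trans ?_ (card_dvd_of_surjective q hqs)
    rw [hcL]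
    norm_num
  obtain ⟨y, hy⟩ := exists_prime_orderOf_dvd_card' (G := ↥(centralizer ({t} : Set ↥MonsterX.InstData.M.G))) 7 hdvd
  obtain ⟨U, H, a1, a2, a3, a4, a5, a6⟩ := exists_gen ht (y := (y : ↥MonsterX.InstData.M.G))
    (by rw [Subgroup.orderOf_coe, hy]) (mem_centralizer_singleton_iff.1 y.2)
  obtain ⟨U', hU'⟩ : ∃ U' : ↥(centralizer ({t} : Set ↥MonsterX.InstData.M.G)), (U' : ↥MonsterX.InstData.M.G) = U :=
    ⟨⟨U, mem_centralizer_singleton_iff.2 a4⟩, rfl⟩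
  obtain ⟨H', hH'⟩ : ∃ H' : ↥(centralizer ({t} : Set ↥MonsterX.InstData.M.G)), (H' : ↥MonsterX.InstData.M.G) = H :=
    ⟨⟨H, mem_centralizer_singleton_iff.2 a5⟩, rfl⟩
  have b2 : U' * y = y * U' := Subtype.ext (by
    show (U' : ↥MonsterX.InstData.M.G) * y = y * U'
    rw [hU', a2])
  have b3 : H' * y = y * H' := Subtype.ext (by
    show (H' : ↥MonsterX.InstData.M.G) * y = y * H'
    rw [hH', a3])
  have b6 : H' * U' * H'⁻¹ = U' ^ 2 := Subtype.ext (by
    show (H' : ↥MonsterX.InstData.M.G) * U' * (H' : ↥MonsterX.InstData.M.G)⁻¹ = (U' : ↥MonsterX.InstData.M.G) ^ 2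
    rw [hH', hU', a6])
  refine ⟨q y, q U', q H', inert_seven ?_ (h7 y hy) (h7 U' ?_) ?_ ?_ ?_⟩
  · rw [hcL]
    norm_num
  · rw [← Subgroup.orderOf_coe, hU', a1]
  · show q y * q U' = q U' * q y
    rw [← map_mul, ← map_mul, b2]
  · show q H' * q y = q y * q H'
    rw [← map_mul, ← map_mul, b3]
  · rw [← map_inv, ← map_mul, ← map_mul, b6, map_pow]

/-- **`B`, `p = 7`.** -/
theorem b_seven {X : Type v} [Group X] (h : Spor.IsoB X) : Cfsg.Agent.H61.K6.KRow.{u, v} 7 X := by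
  obtain ⟨x, y, k, H⟩ := exists_inert h
  exact H404.K6.KRow.of_inertial.{u, v} H (Or.inr ⟨rfl, by norm_num⟩)

end Cfsg.Agent.H349.K6.B
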